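import Groth.Prelude.Def_FlatCA
import Mathlib

/-! Weakly associated primes: characterisation, behaviour under localisation and quotients. -/

namespace Groth.Agent.WeakAss

open FlatCA

universe u v w x

variable {R : Type u} [CommRing R] {M : Type v} [AddCommGroup M] [Module R M]

lemma mem_ann_span {m : M} {r : R} : r ∈ (Submodule.span R {m}).annihilator ↔ r • m = 0 :=
  Submodule.mem_annihilator_span_singleton m r

lemma mem_weakAss_iff {p : Ideal R} :
    p ∈ weakAss R M ↔ p.IsPrime ∧ ∃ m : M, (∀ r : R, r • m = 0 → r ∈ p) ∧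
      ∀ r ∈ p, ∃ s ∉ p, ∃ n : ℕ, s • r ^ n • m = 0 := by
  constructor
  · rintro ⟨m, hm⟩
    have hp := hm.1.1
    refine ⟨hp, m, fun r hr ↦ hm.1.2 (mem_ann_span.mpr hr), fun r hr ↦ ?_⟩
    by_contra hcon
    push Not at hcon
    have hd : Disjoint ((Submodule.span R {m}).annihilator : Set R)
        (p.primeCompl ⊔ Submonoid.powers r : Submonoid R) := by
      rw [Set.disjoint_left]
      intro a ha ha'
      obtain ⟨s, hs, _, ⟨n, rfl⟩, rfl⟩ := Submonoid.mem_sup.mp ha'
      exact hcon s hs n (by rw [← mul_smul]; exact mem_ann_span.mp ha)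
    obtain ⟨q, hq, hIq, hqd⟩ := Ideal.exists_le_prime_disjoint _ _ hd
    rw [Set.disjoint_left] at hqd
    have hqp : q ≤ p := fun a ha ↦ by
      by_contra h
      exact hqd ha (Submonoid.mem_sup_left h)
    exact hqd (hm.2 ⟨hq, hIq⟩ hqp hr) (Submonoid.mem_sup_right (Submonoid.mem_powers r))
  · rintro ⟨hp, m, h1, h2⟩
    refine ⟨m, ⟨hp, fun r hr ↦ h1 r (mem_ann_span.mp hr)⟩, fun q hq hqp r hr ↦ ?_⟩
    obtain ⟨s, hs, n, hn⟩ := h2 r hr
    rw [← mul_smul] at hn
    exact hq.1.mem_of_pow_mem n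
      ((hq.1.mem_or_mem (hq.2 (mem_ann_span.mpr hn))).resolve_left fun h ↦ hs (hqp h))

lemma disjoint_of_isSMulRegular {p : Ideal R} (hp : p ∈ weakAss R M) {S : Submonoid R}
    (hS : ∀ s ∈ S, IsSMulRegular M s) : Disjoint (S : Set R) (p : Set R) := by
  obtain ⟨hp, m, h1, h2⟩ := mem_weakAss_iff.mp hp
  rw [Set.disjoint_left]
  intro t htS htp
  obtain ⟨s, hs, n, hn⟩ := h2 t htp
  refine hs (h1 s ((hS _ (S.pow_mem htS n)).eq_iff.mp ?_))
  rw [smul_zero, smul_comm]
  simpa using hn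

section Restrict

variable {A : Type w} [CommRing A] [Algebra R A] {N : Type x} [AddCommGroup N] [Module R N] [Module A N]
  [IsScalarTower R A N]

variable (R A) in
/-- Every element of `A` is a fraction of elements of `R`. -/
def Fractional : Prop :=
  ∀ a : A, ∃ t r : R, IsUnit (algebraMap R A t) ∧ algebraMap R A t * a = algebraMap R A r

lemma fractional_quotient (I : Ideal R) : Fractional R (R ⧸ I) := fun a ↦ by
  obtain ⟨r, rfl⟩ := Ideal.Quotient.mk_surjective a
  exact ⟨1, r, by simp, by simp⟩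

lemma fractional_localization (S : Submonoid R) [IsLocalization S A] : Fractional R A := fun a ↦ by
  obtain ⟨⟨r, s⟩, h⟩ := IsLocalization.surj S a
  exact ⟨s, r, IsLocalization.map_units A s, by rw [mul_comm]; exact h⟩

/-- The prime of `A` lying over a prime of `R` which contains the kernel and no unit. -/
lemma exists_prime_over (H : Fractional R A) {p : Ideal R} (hp : p.IsPrime)
    (hker : ∀ r : R, algebraMap R A r = 0 → r ∈ p) (hunit : ∀ t ∈ p, ¬ IsUnit (algebraMap R A t)) :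
    ∃ q : Ideal A, q.IsPrime ∧ Ideal.comap (algebraMap R A) q = p ∧
      ∀ a ∈ q, ∃ t r : R, IsUnit (algebraMap R A t) ∧ r ∈ p ∧ algebraMap R A t * a = algebraMap R A r := by
  let q : Ideal A :=
    { carrier := {a | ∃ t r : R, IsUnit (algebraMap R A t) ∧ r ∈ p ∧ algebraMap R A t * a = algebraMap R A r}
      zero_mem' := ⟨1, 0, by simp, p.zero_mem, by simp⟩
      add_mem' := by
        rintro a b ⟨t, r, ht, hr, h⟩ ⟨t', r', ht', hr', h'⟩
        refine ⟨t * t', t' * r + t * r', by rw [map_mul]; exact ht.mul ht',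
          p.add_mem (p.mul_mem_left _ hr) (p.mul_mem_left _ hr'), ?_⟩
        simp only [map_add, map_mul]
        linear_combination algebraMap R A t' * h + algebraMap R A t * h'
      smul_mem' := by
        rintro c a ⟨t, r, ht, hr, h⟩
        obtain ⟨t', r', ht', h'⟩ := H c
        refine ⟨t' * t, r' * r, by rw [map_mul]; exact ht'.mul ht, p.mul_mem_left _ hr, ?_⟩
        rw [map_mul, map_mul, ← h, ← h', smul_eq_mul]
        ring }
  have hu : ∀ t : R, IsUnit (algebraMap R A t) → t ∉ p := fun t ht h ↦ hunit t h ht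
  have hc : ∀ r : R, algebraMap R A r ∈ q ↔ r ∈ p := by
    refine fun r ↦ ⟨?_, fun h ↦ ⟨1, r, by simp, h, by simp⟩⟩
    rintro ⟨t, r', ht, hr', h⟩
    have h0 : t * r - r' ∈ p := hker _ (by simp [h])
    have h1 : t * r ∈ p := by simpa using p.add_mem h0 hr'
    exact (hp.mem_or_mem h1).resolve_left (hu t ht)
  refine ⟨q, ⟨fun htop ↦ hp.ne_top (Ideal.ext fun r ↦ ?_), ?_⟩, Ideal.ext hc, fun a ha ↦ ha⟩
  · simp [← hc r, htop]
  · intro a b hab
    obtain ⟨t, r, ht, h⟩ := H a
    obtain ⟨t', r', ht', h'⟩ := H b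
    have : r * r' ∈ p := (hc _).mp (by
      rw [map_mul, ← h, ← h', mul_mul_mul_comm]; exact q.mul_mem_left _ hab)
    rcases hp.mem_or_mem this with hr | hr
    · exact Or.inl ⟨t, r, ht, hr, h⟩
    · exact Or.inr ⟨t', r', ht', hr, h'⟩

lemma weakAss_eq_image_comap (H : Fractional R A) :
    weakAss R N = Ideal.comap (algebraMap R A) '' weakAss A N := by
  ext p
  constructor
  · intro hp
    obtain ⟨hp, m, h1, h2⟩ := mem_weakAss_iff.mp hp
    have hker : ∀ r : R, algebraMap R A r = 0 → r ∈ p := fun r hr ↦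
      h1 r (by rw [← algebraMap_smul A r m, hr, zero_smul])
    have hunit : ∀ t ∈ p, ¬ IsUnit (algebraMap R A t) := by
      intro t ht hu
      obtain ⟨s, hs, n, hn⟩ := h2 t ht
      refine hs (h1 s ?_)
      rw [smul_comm, ← algebraMap_smul A (t ^ n), map_pow] at hn
      exact (hu.pow n).smul_eq_zero.mp hn
    obtain ⟨q, hq, hqp, hq'⟩ := exists_prime_over H hp hker hunit
    refine ⟨q, mem_weakAss_iff.mpr ⟨hq, m, fun a ha ↦ ?_, fun a ha ↦ ?_⟩, hqp⟩
    · obtain ⟨t, r, ht, h⟩ := H a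
      have hr : r ∈ p := h1 r (by rw [← algebraMap_smul A r m, ← h, mul_smul, ha, smul_zero])
      have : algebraMap R A t * a ∈ q := h ▸ (show algebraMap R A r ∈ q from
        (SetLike.ext_iff.mp hqp r).mpr hr)
      exact (hq.mem_or_mem this).resolve_left fun h ↦ hq.ne_top (q.eq_top_of_isUnit_mem h ht)
    · obtain ⟨t, r, ht, hr, h⟩ := hq' a ha
      obtain ⟨s, hs, n, hn⟩ := h2 r hr
      refine ⟨algebraMap R A s, fun hh ↦ hs ((SetLike.ext_iff.mp hqp s).mp hh), n, ?_⟩
      refine (ht.pow n).smul_eq_zero.mp ?_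
      rw [smul_comm, ← mul_smul (_ ^ n), ← mul_pow, h, ← map_pow, algebraMap_smul, algebraMap_smul, hn]
  · rintro ⟨q, hq, rfl⟩
    obtain ⟨hq, m, h1, h2⟩ := mem_weakAss_iff.mp hq
    refine mem_weakAss_iff.mpr ⟨hq.comap _, m, fun r hr ↦ h1 _ (by rw [algebraMap_smul, hr]), fun r hr ↦ ?_⟩
    obtain ⟨a, ha, n, hn⟩ := h2 _ hr
    obtain ⟨t, s, ht, h⟩ := H a
    refine ⟨s, fun hs ↦ ha ?_, n, ?_⟩
    · exact (hq.mem_or_mem (show algebraMap R A t * a ∈ q by rw [h]; exact hs)).resolve_left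
        fun h ↦ hq.ne_top (q.eq_top_of_isUnit_mem h ht)
    · rw [← algebraMap_smul A s, ← h, mul_smul, ← algebraMap_smul A (r ^ n), map_pow, hn, smul_zero]

lemma image_comap_ass_subset : Ideal.comap (algebraMap R A) '' ass A N ⊆ ass R N := by
  rintro p ⟨q, ⟨hq, m, rfl⟩, rfl⟩
  exact ⟨hq.comap _, m, Ideal.ext fun r ↦ by simp [mem_ann_span]⟩

lemma ass_eq_image_comap (H : Fractional R A) :
    ass R N = Ideal.comap (algebraMap R A) '' ass A N := by
  refine Set.Subset.antisymm ?_ image_comap_ass_subset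
  rintro p ⟨hp, m, rfl⟩
  have hker : ∀ r : R, algebraMap R A r = 0 → r ∈ (Submodule.span R {m}).annihilator := fun r hr ↦
    mem_ann_span.mpr (by rw [← algebraMap_smul A r m, hr, zero_smul])
  have hunit : ∀ t ∈ (Submodule.span R {m}).annihilator, ¬ IsUnit (algebraMap R A t) := by
    intro t ht hu
    rw [mem_ann_span, ← algebraMap_smul A, hu.smul_eq_zero] at ht
    exact hp.ne_top ((Ideal.eq_top_iff_one _).mpr (mem_ann_span.mpr (by simp [ht])))
  obtain ⟨q, hq, hqp, hq'⟩ := exists_prime_over H hp hker hunit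
  refine ⟨q, ⟨hq, m, Ideal.ext fun a ↦ ?_⟩, hqp⟩
  rw [mem_ann_span]
  constructor
  · intro ha
    obtain ⟨t, r, ht, hr, h⟩ := hq' a ha
    refine ht.smul_eq_zero.mp ?_
    rw [← mul_smul, h, algebraMap_smul]
    exact mem_ann_span.mp hr
  · intro ha
    obtain ⟨t, r, ht, h⟩ := H a
    have hr : r ∈ (Submodule.span R {m}).annihilator :=
      mem_ann_span.mpr (by rw [← algebraMap_smul A r m, ← h, mul_smul, ha, smul_zero])
    have : algebraMap R A t * a ∈ q := h ▸ (show algebraMap R A r ∈ q from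
      (SetLike.ext_iff.mp hqp r).mpr hr)
    exact (hq.mem_or_mem this).resolve_left fun h ↦ hq.ne_top (q.eq_top_of_isUnit_mem h ht)

end Restrict

section Localized

variable (S : Submonoid R) {N : Type x} [AddCommGroup N] [Module R N] (f : M →ₗ[R] N) [IsLocalizedModule S f]

include f

lemma mem_weakAss_localized_iff {p : Ideal R} (hS : Disjoint (S : Set R) (p : Set R)) :
    p ∈ weakAss R M ↔ p ∈ weakAss R N := by
  rw [Set.disjoint_left] at hS
  rw [mem_weakAss_iff, mem_weakAss_iff]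
  refine and_congr_right fun hp ↦ ⟨?_, ?_⟩
  · rintro ⟨m, h1, h2⟩
    refine ⟨f m, fun r hr ↦ ?_, fun r hr ↦ ?_⟩
    · rw [← map_smul, IsLocalizedModule.eq_zero_iff S f] at hr
      obtain ⟨c, hc⟩ := hr
      exact (hp.mem_or_mem (h1 ((c : R) * r) (by rw [mul_smul]; exact hc))).resolve_left
        fun h ↦ hS c.2 h
    · obtain ⟨s, hs, n, hn⟩ := h2 r hr
      exact ⟨s, hs, n, by rw [← map_smul, ← map_smul, hn, map_zero]⟩
  · rintro ⟨y, h1, h2⟩
    obtain ⟨⟨m, c⟩, hc⟩ := IsLocalizedModule.surj S f y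
    change (c : R) • y = f m at hc
    have hcp : (c : R) ∉ p := fun h ↦ hS c.2 h
    refine ⟨m, fun r hr ↦ ?_, fun r hr ↦ ?_⟩
    · exact (hp.mem_or_mem (h1 (r * c) (by rw [mul_smul, hc, ← map_smul, hr, map_zero]))).resolve_right hcp
    · obtain ⟨s, hs, n, hn⟩ := h2 r hr
      have h0 : f (s • r ^ n • m) = 0 := by
        rw [map_smul, map_smul, ← hc, smul_comm _ (c : R), smul_comm _ (c : R), hn, smul_zero]
      obtain ⟨d, hd⟩ := (IsLocalizedModule.eq_zero_iff S f).mp h0
      refine ⟨(d : R) * s, fun h ↦ ?_, n, by rw [mul_smul]; exact hd⟩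
      exact (hp.mem_or_mem h).elim (fun h ↦ hS d.2 h) hs

variable {A : Type w} [CommRing A] [Algebra R A] [IsLocalization S A] [Module A N] [IsScalarTower R A N]

lemma mem_weakAss_iff_map_mem {p : Ideal R} (hp : p.IsPrime) (hS : Disjoint (S : Set R) (p : Set R)) :
    p ∈ weakAss R M ↔ Ideal.map (algebraMap R A) p ∈ weakAss A N := by
  rw [mem_weakAss_localized_iff S f hS,
    weakAss_eq_image_comap (A := A) (fractional_localization S)]
  constructor
  · rintro ⟨q, hq, rfl⟩
    rwa [IsLocalization.map_comap S]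
  · intro h
    exact ⟨_, h, IsLocalization.comap_map_of_isPrime_disjoint S _ hp hS⟩

lemma weakAss_eq_of_isSMulRegular (hS : ∀ s ∈ S, IsSMulRegular M s) : weakAss R M = weakAss R N := by
  ext p
  refine ⟨fun hp ↦ (mem_weakAss_localized_iff S f (disjoint_of_isSMulRegular hp hS)).mp hp,
    fun hp ↦ (mem_weakAss_localized_iff S f (disjoint_of_isSMulRegular hp fun s hs ↦ ?_)).mpr hp⟩
  exact IsLocalizedModule.smul_injective f ⟨s, hs⟩

end Localized

section Local

variable [IsLocalRing R]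

lemma maximalIdeal_mem_weakAss_iff :
    IsLocalRing.maximalIdeal R ∈ weakAss R M ↔
      ∃ m : M, ((Submodule.span R {m}).annihilator).radical = IsLocalRing.maximalIdeal R := by
  refine exists_congr fun m ↦ ⟨fun h ↦ ?_, fun h ↦ ?_⟩
  · rw [Ideal.radical_eq_sInf]
    exact le_antisymm (sInf_le ⟨h.1.2, h.1.1⟩)
      (le_sInf fun q hq ↦ h.2 ⟨hq.2, hq.1⟩ (IsLocalRing.le_maximalIdeal hq.2.ne_top))
  · refine ⟨⟨inferInstance, Ideal.le_radical.trans h.le⟩, fun q hq _ ↦ ?_⟩
    rw [← h]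
    exact hq.1.radical_le_iff.mpr hq.2

end Local

end Groth.Agent.WeakAss
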